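import Cfsg.Agent.Lib.Helper26.SNNRel
import Cfsg.Agent.Lib.Helper77.Frobenius
import Cfsg.Agent.Lib.Helper71.NilMax
import Cfsg.Agent.S0182

/-!
Ladder SNN (S4073), rung ODD: an `SN`-group of odd order is solvable.
-/

set_option autoImplicit false

namespace Cfsg.Agent.Lib.Helper73.SNN

open Subgroup Cfsg.Agent.Lib.Helper26.SNN Cfsg.Agent.Lib.Helper77

universe u

theorem odd_exists_zpow {G : Type*} [Group G] {y : G} {s : ℕ} (hs : s.Prime) (hy : y ^ s = 1)
    {i : ℤ} (hi : y ^ i ≠ 1) : ∃ w : ℤ, (y ^ i) ^ w = y := by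
  have hnd : ¬ (s : ℤ) ∣ i := by
    rintro ⟨c, rfl⟩
    apply hi
    rw [zpow_mul, zpow_natCast, hy, one_zpow]
  have hcop : IsCoprime (s : ℤ) i :=
    (Prime.coprime_iff_not_dvd (Nat.prime_iff_prime_int.mp hs)).mpr hnd
  obtain ⟨a, b, hab⟩ := hcop
  refine ⟨b, ?_⟩
  have h1 : y ^ (a * s + b * i) = y := by rw [hab, zpow_one]
  rw [zpow_add, mul_comm a, zpow_mul, zpow_natCast, hy, one_zpow, one_mul, mul_comm b, zpow_mul]
    at h1
  exact h1

/-- in case (B), the commutator of two elements of `L` lies in `K`. -/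
theorem odd_comm_mem {G : Type*} [Group G] {L K : Subgroup G} {y : G} {s : ℕ} (D : BData L K y s)
    {a b : G} (ha : a ∈ L) (hb : b ∈ L) : a * b * a⁻¹ * b⁻¹ ∈ K := by
  obtain ⟨k₁, hk₁, i, rfl⟩ := D.decomp a ha
  obtain ⟨k₂, hk₂, j, rfl⟩ := D.decomp b hb
  have e : k₁ * y ^ i * (k₂ * y ^ j) * (k₁ * y ^ i)⁻¹ * (k₂ * y ^ j)⁻¹ =
      k₁ * (y ^ i * k₂ * (y ^ i)⁻¹) * (y ^ j * k₁⁻¹ * (y ^ j)⁻¹) * k₂⁻¹ := by
    have hc : y ^ j * (y ^ i)⁻¹ = (y ^ i)⁻¹ * y ^ j := by
      rw [← zpow_neg, ← zpow_add, ← zpow_add, add_comm]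
    calc k₁ * y ^ i * (k₂ * y ^ j) * (k₁ * y ^ i)⁻¹ * (k₂ * y ^ j)⁻¹
        = k₁ * y ^ i * k₂ * (y ^ j * (y ^ i)⁻¹) * k₁⁻¹ * (y ^ j)⁻¹ * k₂⁻¹ := by group
      _ = k₁ * y ^ i * k₂ * ((y ^ i)⁻¹ * y ^ j) * k₁⁻¹ * (y ^ j)⁻¹ * k₂⁻¹ := by rw [hc]
      _ = _ := by group
  rw [e]
  exact K.mul_mem (K.mul_mem (K.mul_mem hk₁ (D.conj_mem _ (L.zpow_mem D.mem i) _ hk₂))
    (D.conj_mem _ (L.zpow_mem D.mem j) _ (K.inv_mem hk₁))) (K.inv_mem hk₂)

/-- `⟨y⟩ ∩ K = 1`. -/
theorem odd_eq_one_of_mem {G : Type*} [Group G] [Finite G] {L K : Subgroup G} {y : G} {s : ℕ}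
    (D : BData L K y s) {z : G} (hz : z ∈ zpowers y) (hzK : z ∈ K) : z = 1 := by
  obtain ⟨e, he⟩ := D.order
  rw [← orderOf_eq_one_iff]
  have h1 : orderOf z ∣ Nat.card K := by
    have := orderOf_dvd_natCard (⟨z, hzK⟩ : K)
    rwa [Subgroup.orderOf_mk] at this
  have h2 : orderOf z ∣ s ^ e := by
    rw [← he]
    exact orderOf_dvd_of_mem_zpowers hz
  exact Nat.eq_one_of_dvd_coprimes (Nat.Coprime.pow_right e D.coprime) h1 h2

/-- the key step: in a simple group, `y ^ s = 1` in case (B) for a maximal subgroup. -/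
theorem odd_pow_eq_one {G : Type*} [Group G] [Finite G]
    (hsimple : ∀ N : Subgroup G, N.Normal → N = ⊥ ∨ N = ⊤) {M K : Subgroup G} (hM : IsCoatom M)
    {y : G} {s : ℕ} (D : BData M K y s) : y ^ s = 1 := by
  by_contra hz
  have hsp : Fact s.Prime := ⟨D.prime⟩
  set z := y ^ s with hzdef
  set Z := zpowers z with hZ
  set T := zpowers y with hT
  have hyT : y ∈ T := mem_zpowers y
  have hTM : T ≤ M := by rw [hT, zpowers_le]; exact D.mem
  have hzT : z ∈ T := T.pow_mem hyT s
  have hZT : Z ≤ T := by rw [hZ, zpowers_le]; exact hzT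
  have hZ1 : Z ≠ ⊥ := by
    intro h
    rw [hZ, zpowers_eq_bot] at h
    exact hz h
  have hZtop : Z ≠ ⊤ := fun h => hM.1 (top_le_iff.mp (h ▸ hZT.trans hTM))
  -- `z` is central in `M`
  have hzc : ∀ m ∈ M, m * z = z * m := by
    intro m hm
    obtain ⟨k, hk, i, rfl⟩ := D.decomp m hm
    have h1 : z * k = k * z := D.pow_comm k hk
    have h2 : y ^ i * z = z * y ^ i := by
      have : Commute y y := Commute.refl y
      exact ((this.zpow_left i).pow_right s).eq
    calc k * y ^ i * z = k * (y ^ i * z) := by group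
      _ = k * (z * y ^ i) := by rw [h2]
      _ = (k * z) * y ^ i := by group
      _ = (z * k) * y ^ i := by rw [h1]
      _ = z * (k * y ^ i) := by group
  have hNZ : normalizer (Z : Set G) = M := by
    have hle : M ≤ normalizer (Z : Set G) := by
      intro m hm
      apply centralizer_le_normalizer
      rw [mem_centralizer_iff]
      intro w hw
      obtain ⟨j, rfl⟩ := mem_zpowers_iff.mp hw
      have : Commute m z := hzc m hm
      exact (this.zpow_right j).eq.symm
    rcases hM.le_iff.mp hle with h | h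
    · exfalso
      rcases hsimple Z (normalizer_eq_top_iff.mp h) with h' | h'
      · exact hZ1 h'
      · exact hZtop h'
    · exact h
  -- `N_G(T) ≤ M`
  have hNT : normalizer (T : Set G) ≤ M := by
    rw [← hNZ]
    have hconj : ∀ n ∈ normalizer (T : Set G), ∀ w ∈ Z, n * w * n⁻¹ ∈ Z := by
      intro n hn w hw
      obtain ⟨j, rfl⟩ := mem_zpowers_iff.mp hw
      have h1 : n * y * n⁻¹ ∈ T := (mem_normalizer_iff.mp hn y).mp hyT
      obtain ⟨l, hl⟩ := mem_zpowers_iff.mp h1
      have h2 : n * z * n⁻¹ = z ^ l := by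
        rw [hzdef, ← conj_pow, ← hl, ← zpow_natCast, ← zpow_mul, mul_comm, zpow_mul, zpow_natCast]
      have h3 : n * z ^ j * n⁻¹ = (z ^ l) ^ j := by
        rw [← h2, conj_zpow]
      rw [h3]
      exact Z.zpow_mem (Z.zpow_mem (mem_zpowers z) l) j
    intro n hn
    rw [mem_normalizer_iff]
    intro w
    refine ⟨hconj n hn w, fun hw => ?_⟩
    have := hconj n⁻¹ (inv_mem hn) _ hw
    have e : n⁻¹ * (n * w * n⁻¹) * n⁻¹⁻¹ = w := by group
    rwa [e] at this
  -- `N_G(T) = T`
  have hNT' : normalizer (T : Set G) ≤ T := by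
    intro n hn
    obtain ⟨k, hk, i, rfl⟩ := D.decomp n (hNT hn)
    have hyi : y ^ i ∈ T := T.zpow_mem hyT i
    have hkN : k ∈ normalizer (T : Set G) := by
      have : k = k * y ^ i * (y ^ i)⁻¹ := by group
      rw [this]
      exact mul_mem hn (inv_mem (le_normalizer hyi))
    have h1 : k * y * k⁻¹ * y⁻¹ ∈ T :=
      T.mul_mem ((mem_normalizer_iff.mp hkN y).mp hyT) (T.inv_mem hyT)
    have h2 : k * y * k⁻¹ * y⁻¹ ∈ K := by
      have : k * y * k⁻¹ * y⁻¹ = k * (y * k⁻¹ * y⁻¹) := by group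
      rw [this]
      exact K.mul_mem hk (D.conj_mem y D.mem _ (K.inv_mem hk))
    have h3 := odd_eq_one_of_mem D h1 h2
    have h4 : y * k = k * y := by
      calc y * k = (k * y * k⁻¹ * y⁻¹)⁻¹ * (k * y) := by group
        _ = k * y := by rw [h3, inv_one, one_mul]
    rw [D.fpf k hk h4, one_mul]
    exact hyi
  -- `T` is a Sylow subgroup
  have hTp : IsPGroup s T := by
    obtain ⟨e, he⟩ := D.order
    apply IsPGroup.of_card (n := e)
    rw [hT, Nat.card_zpowers, he]
  obtain ⟨P, hP⟩ := hTp.exists_le_sylow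
  have hTP : T = P := by
    by_contra hne
    obtain ⟨x, -, hxN, hxT⟩ := exists_normalizer_notMem (P : Subgroup G) P.2 T
      (lt_of_le_of_ne hP hne)
    exact hxT (hNT' hxN)
  have hNC : normalizer ((P : Subgroup G) : Set G) ≤ centralizer ((P : Subgroup G) : Set G) := by
    rw [← hTP]
    intro n hn
    have hnT := hNT' hn
    rw [mem_centralizer_iff]
    intro w hw
    obtain ⟨a, rfl⟩ := mem_zpowers_iff.mp hnT
    obtain ⟨b, rfl⟩ := mem_zpowers_iff.mp hw
    rw [← zpow_add, ← zpow_add, add_comm]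
  have hcompl := MonoidHom.ker_transferSylow_isComplement' P hNC
  rcases hsimple _ (MonoidHom.normal_ker (MonoidHom.transferSylow P hNC)) with h | h
  · rw [h] at hcompl
    have : (P : Subgroup G) = ⊤ := isComplement'_bot_left.mp hcompl
    exact hM.1 (top_le_iff.mp (this ▸ hTP ▸ hTM))
  · rw [h] at hcompl
    have : (P : Subgroup G) = ⊥ := isComplement'_top_left.mp hcompl
    rw [← hTP] at this
    exact hZ1 (eq_bot_iff.mpr (this ▸ hZT))

theorem solvable_of_odd_aux : ∀ (n : ℕ) (G : Type u) [Group G] [Finite G], Nat.card G = n → SN G →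
    Odd (Nat.card G) → Group.IsSolvable G := by
  intro n
  induction n using Nat.strong_induction_on with
  | _ n ih =>
    intro G _ _ hn h hodd
    by_contra hns
    have hnc : ¬ ∀ a b : G, a * b = b * a := fun hc => hns (Group.isSolvable_of_comm hc)
    -- proper subgroups are solvable
    have hsub : ∀ H : Subgroup G, H ≠ ⊤ → Group.IsSolvable H := by
      intro H hH
      refine ih (Nat.card H) ?_ H rfl (h.subgroup H) ?_
      · rw [← hn]
        have := card_lt_card_of_lt (lt_top_iff_ne_top.mpr hH)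
        rwa [card_top] at this
      · exact Odd.of_dvd_nat hodd (card_subgroup_dvd_card H)
    have hsimple : ∀ N : Subgroup G, N.Normal → N = ⊥ ∨ N = ⊤ := by
      intro N hN
      by_contra hcon
      push Not at hcon
      apply hns
      have h1 : Group.IsSolvable N := hsub N hcon.2
      have h2 : Group.IsSolvable (G ⧸ N) := by
        refine ih (Nat.card (G ⧸ N)) ?_ (G ⧸ N) rfl (h.quotient N) ?_
        · rw [← hn, ← N.card_mul_index, ← index_eq_card]
          have h3 : 1 < Nat.card N := by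
            rw [Finite.one_lt_card_iff_nontrivial]
            exact (nontrivial_iff_ne_bot N).mpr hcon.1
          have h4 : 0 < N.index := Nat.pos_of_ne_zero index_ne_zero_of_finite
          nlinarith
        · rw [← index_eq_card]
          exact Odd.of_dvd_nat hodd (index_dvd_card N)
      exact Group.isSolvable_of_ker_le_range N.subtype (QuotientGroup.mk' N) (by simp)
    apply hns
    apply Cfsg.Agent.S0182.result hodd
    intro x hx a ha b hb
    set C := centralizer ({x} : Set G) with hC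
    have hxC : x ∈ C := mem_centralizer_singleton_iff.mpr rfl
    have hCtop : C ≠ ⊤ := by
      intro htop
      have hxc : x ∈ center G := by
        rw [mem_center_iff]
        intro g
        have : g ∈ C := htop ▸ mem_top g
        exact mem_centralizer_singleton_iff.mp this
      rcases hsimple (center G) inferInstance with h' | h'
      · rw [h', mem_bot] at hxc
        exact hx hxc
      · apply hnc
        intro a b
        have : b ∈ center G := h' ▸ mem_top b
        exact (mem_center_iff.mp this a)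
    obtain ⟨M, hM, hCM⟩ := (eq_top_or_exists_le_coatom C).resolve_left hCtop
    by_cases hMc : IsMulCommutative M
    · exact congrArg Subtype.val (hMc.is_comm.comm (⟨a, hCM ha⟩ : M) ⟨b, hCM hb⟩)
    rcases str_rel h M (hsub M hM.1) hMc with ⟨p, hp, hMp⟩ | ⟨s, K, y, D⟩
    · exfalso
      have : Fact p.Prime := ⟨hp⟩
      apply hns
      refine Cfsg.Agent.Lib.Helper71.isSolvable_of_nilMax M hM hMp.isNilpotent (Nat.card M)
        (Odd.of_dvd_nat hodd (card_subgroup_dvd_card M)) ?_
      intro u hu v hv w hw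
      have hpow : ∀ t ∈ M, t ^ Nat.card M = 1 := by
        intro t ht
        exact congrArg Subtype.val (pow_card_eq_one' (G := M) (x := ⟨t, ht⟩))
      rw [hpow u hu, hpow v hv, hpow w hw]
      simp
    have hys : y ^ s = 1 := odd_pow_eq_one hsimple hM D
    -- anything commuting with a nontrivial power of `y` commutes with `y`
    have hcy : ∀ (i : ℤ) (k : G), y ^ i ≠ 1 → k ∈ K → y ^ i * k = k * y ^ i → k = 1 := by
      intro i k hi hk hcomm
      obtain ⟨w, hw⟩ := odd_exists_zpow D.prime hys hi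
      apply D.fpf k hk
      have : Commute (y ^ i) k := hcomm
      have h2 := this.zpow_left w
      rw [hw] at h2
      exact h2.eq
    by_cases hxK : x ∈ K
    · -- `C(x) ≤ K`
      have hCK : ∀ c ∈ C, c ∈ K := by
        intro c hc
        obtain ⟨k, hk, i, rfl⟩ := D.decomp c (hCM hc)
        by_cases hi : y ^ i = 1
        · rw [hi, mul_one]; exact hk
        exfalso
        apply hx
        apply hcy i x hi hxK
        have h1 : k * y ^ i * x = x * (k * y ^ i) := mem_centralizer_singleton_iff.mp hc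
        have h2 : k * x = x * k := D.comm k hk x hxK
        calc y ^ i * x = k⁻¹ * (k * y ^ i * x) := by group
          _ = k⁻¹ * (x * (k * y ^ i)) := by rw [h1]
          _ = k⁻¹ * (x * k) * y ^ i := by group
          _ = k⁻¹ * (k * x) * y ^ i := by rw [h2]
          _ = x * y ^ i := by group
      exact D.comm a (hCK a ha) b (hCK b hb)
    · -- `C(x) ∩ K = 1`
      obtain ⟨k₀, hk₀, i, hxe⟩ := D.decomp x (hCM hxC)
      have hi : y ^ i ≠ 1 := by
        intro hi
        rw [hi, mul_one] at hxe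
        exact hxK (hxe ▸ hk₀)
      have hCK : ∀ c ∈ C, c ∈ K → c = 1 := by
        intro c hc hcK
        apply hcy i c hi hcK
        have h1 : c * x = x * c := mem_centralizer_singleton_iff.mp hc
        rw [hxe] at h1
        have h2 : c * k₀ = k₀ * c := D.comm c hcK k₀ hk₀
        calc y ^ i * c = k₀⁻¹ * (k₀ * y ^ i * c) := by group
          _ = k₀⁻¹ * (c * (k₀ * y ^ i)) := by rw [h1]
          _ = k₀⁻¹ * (c * k₀) * y ^ i := by group
          _ = k₀⁻¹ * (k₀ * c) * y ^ i := by rw [h2]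
          _ = c * y ^ i := by group
      have h1 : a * b * a⁻¹ * b⁻¹ = 1 :=
        hCK _ (C.mul_mem (C.mul_mem (C.mul_mem ha hb) (C.inv_mem ha)) (C.inv_mem hb))
          (odd_comm_mem D (hCM ha) (hCM hb))
      calc a * b = (a * b * a⁻¹ * b⁻¹) * (b * a) := by group
        _ = b * a := by rw [h1, one_mul]

theorem solvable_of_odd {G : Type u} [Group G] [Finite G] (h : SN G) (hodd : Odd (Nat.card G)) :
    Group.IsSolvable G :=
  solvable_of_odd_aux _ G rfl h hodd

end Cfsg.Agent.Lib.Helper73.SNN
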